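import Cfsg.Prelude.Def_KGroupFacts
import Cfsg.Agent.Lib.Known.SL2Multiplier

/-!
# Central extensions of groups with a root system of type G2: the data, and commutators of lifts
-/

set_option autoImplicit false

namespace CfsgLib.Lie.G2Cover

open scoped commutatorElement

universe u

variable {G : Type u} [Group G]

/-- a conjugate subgroup -/
def cj (g : G) (U : Subgroup G) : Subgroup G := U.map (MulAut.conj g).toMonoidHom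

theorem mem_cj {g x : G} {U : Subgroup G} : x ∈ cj g U ↔ g⁻¹ * x * g ∈ U := by
  rw [cj, Subgroup.mem_map]
  constructor
  · rintro ⟨y, hy, rfl⟩
    simpa [MulAut.conj_apply, mul_assoc] using hy
  · intro h
    exact ⟨_, h, by simp [MulAut.conj_apply, mul_assoc]⟩

theorem conj_mem_cj {g x : G} {U : Subgroup G} (hx : x ∈ U) : g * x * g⁻¹ ∈ cj g U :=
  mem_cj.2 (by rwa [show g⁻¹ * (g * x * g⁻¹) * g = x by group])

/-- pairings of two subgroups that are invariant under `H` vanish -/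
def Rigid (H X Y : Subgroup G) : Prop :=
  ∀ {A : Type u} [CommGroup A] (f : G → G → A),
    (∀ x ∈ X, ∀ x' ∈ X, ∀ y ∈ Y, f (x * x') y = f x y * f x' y) →
    (∀ x ∈ X, ∀ y ∈ Y, ∀ y' ∈ Y, f x (y * y') = f x y * f x y') →
    (∀ h ∈ H, ∀ x ∈ X, ∀ y ∈ Y, f (h * x * h⁻¹) (h * y * h⁻¹) = f x y) → ∀ x ∈ X, ∀ y ∈ Y, f x y = 1

/-- a group with root subgroups of type G2 indexed by the twelve directions -/
structure Sys (G : Type u) [Group G] where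
  /-- the torus -/
  H : Subgroup G
  /-- short roots, `SS k` at angle `60 k` -/
  SS : ZMod 6 → Subgroup G
  /-- long roots, `LL k` at angle `60 k + 30` -/
  LL : ZMod 6 → Subgroup G
  na : G
  nb : G
  p2 : G
  p5 : G
  hH : ∀ a ∈ H, ∀ b ∈ H, a * b = b * a
  hHS : ∀ h ∈ H, ∀ k, cj h (SS k) = SS k
  hHL : ∀ h ∈ H, ∀ k, cj h (LL k) = LL k
  naH : cj na H = H
  nbH : cj nb H = H
  naS : ∀ k, cj na (SS k) = SS (3 - k)
  naL : ∀ k, cj na (LL k) = LL (2 - k)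
  nbS : ∀ k, cj nb (SS k) = SS (2 - k)
  nbL : ∀ k, cj nb (LL k) = LL (1 - k)
  naM : na ∈ SS 0 ⊔ SS 3
  sqa : na * na ∈ H
  p2m : p2 ∈ LL 2
  p5m : p5 ∈ LL 5
  hnb : nb = p2 * p5 * p2
  hinv : ∃ h ∈ H, h * p2 * h⁻¹ = p2⁻¹ ∧ h * p5 * h⁻¹ = p5⁻¹
  hbraid : ∃ h ∈ H, (na * nb * na * nb * na) * p2 * (na * nb * na * nb * na)⁻¹ = h * p2 * h⁻¹ ∧
    (na * nb * na * nb * na) * p5 * (na * nb * na * nb * na)⁻¹ = h * p5 * h⁻¹
  orb2 : ∀ x ∈ LL 2, x = 1 ∨ ∃ h ∈ H, x = h * p2 * h⁻¹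
  orb5 : ∀ x ∈ LL 5, x = 1 ∨ ∃ h ∈ H, x = h * p5 * h⁻¹
  fpf : ∃ h ∈ H, (∀ s ∈ SS 1, ⁅h, s⁆ = 1 → s = 1) ∧ ∀ s ∈ SS 1, ∃ s' ∈ SS 1, ⁅h, s'⁆ = s
  fpf0 : ∀ s ∈ SS 0, ∃ h ∈ H ⊓ (SS 0 ⊔ SS 3), ∃ s' ∈ SS 0, ⁅h, s'⁆ = s
  mult : Cfsg.HasCyclicSchurMultiplier ↥(SS 0 ⊔ SS 3) 1
  cSS : ∀ x ∈ SS 1, ∀ y ∈ SS 1, x * y = y * x
  cSL : ∀ x ∈ SS 1, ∀ y ∈ LL 1, x * y = y * x
  cAL : ∀ x ∈ SS 0, ∀ y ∈ LL 1, x * y = y * x
  rSS : Rigid H (SS 1) (SS 1)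
  rSL : Rigid H (SS 1) (LL 1)
  rAL : Rigid H (SS 0) (LL 1)
  cMB : ∀ x ∈ SS 1, ∀ y ∈ SS 2, ⁅x, y⁆ ∈ LL 1
  sMB : ∀ z ∈ LL 1, ∃ x ∈ SS 1, ∃ y ∈ SS 2, ⁅x, y⁆ = z
  twist : ∀ y ∈ SS 2, ∃ v ∈ SS 0, ∃ w ∈ SS 1 ⊔ (LL 0 ⊔ LL 1), p2 * v * p2⁻¹ = v * y * w
  injL : ∀ l ∈ LL 0, ⁅l⁻¹, p2⁆ = 1 → l = 1
  cLb : ∀ l ∈ LL 0, ⁅l⁻¹, p2⁆ ∈ LL 1
  cAB : ∀ x ∈ SS 0, ∀ y ∈ SS 2, ⁅x, y⁆ ∈ SS 1 ⊔ (LL 0 ⊔ LL 1)
  cAb : ∀ x ∈ SS 0, ∀ y ∈ LL 2, ⁅x, y⁆ ∈ SS 2 ⊔ (SS 1 ⊔ (LL 0 ⊔ LL 1))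
  rAB : Rigid H (SS 0) (SS 2)
  rAb : Rigid H (SS 0) (LL 2)
  d2 : LL 0 ⊓ LL 1 = ⊥
  d3 : SS 1 ⊓ (LL 0 ⊔ LL 1) = ⊥
  d4 : SS 2 ⊓ (SS 1 ⊔ (LL 0 ⊔ LL 1)) = ⊥
  d5 : SS 0 ⊓ (SS 2 ⊔ (SS 1 ⊔ (LL 0 ⊔ LL 1))) = ⊥
  d6 : LL 2 ⊓ (SS 0 ⊔ (SS 2 ⊔ (SS 1 ⊔ (LL 0 ⊔ LL 1)))) = ⊥
  d7 : H ⊓ (LL 2 ⊔ (SS 0 ⊔ (SS 2 ⊔ (SS 1 ⊔ (LL 0 ⊔ LL 1))))) = ⊥
  hHgen : ∀ h ∈ H, ∃ a ∈ H ⊓ (SS 0 ⊔ SS 3), ∃ b ∈ H ⊓ (SS 0 ⊔ SS 3), h = a * (nb * b * nb⁻¹)
  hHmeet : ∀ h ∈ H ⊓ (SS 0 ⊔ SS 3), nb⁻¹ * h * nb ∈ SS 0 ⊔ SS 3 → h * p2 = p2 * h ∧ h * p5 = p5 * h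
  rank1 : ∀ x ∈ SS 3, x = 1 ∨ ∃ p ∈ SS 0, ∃ h ∈ H ⊓ (SS 0 ⊔ SS 3), ∃ p' ∈ SS 0, x = p * (h * na) * p'
  dist : ∀ j k, SS j = SS k → j = k
  hBN : ∀ n ∈ H ⊔ Subgroup.closure {na, nb},
    n ∈ H ⊔ (LL 2 ⊔ (SS 0 ⊔ (SS 2 ⊔ (SS 1 ⊔ (LL 0 ⊔ LL 1))))) → n ∈ H
  gen : SS 0 ⊔ SS 3 ⊔ (LL 2 ⊔ LL 5) = ⊤
  perfect : commutator G = ⊤

/-- a stem extension -/
structure Ext (G : Type u) [Group G] (E : Type u) [Group E] where
  π : E →* G
  surj : Function.Surjective π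
  central : π.ker ≤ Subgroup.center E
  der : π.ker ≤ commutator E

variable {E : Type u} [Group E] (X : Ext G E)

namespace Ext

/-- a lift -/
noncomputable def lf (g : G) : E := Function.surjInv X.surj g

theorem π_lf (g : G) : X.π (X.lf g) = g := Function.surjInv_eq X.surj g

/-- the commutator of lifts -/
noncomputable def cm (g h : G) : E := ⁅X.lf g, X.lf h⁆

theorem π_cm (g h : G) : X.π (X.cm g h) = ⁅g, h⁆ := by rw [cm, map_commutatorElement, X.π_lf, X.π_lf]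

theorem ker_comm {z : E} (hz : X.π z = 1) (x : E) : x * z = z * x :=
  Subgroup.mem_center_iff.1 (X.central (MonoidHom.mem_ker.2 hz)) x

theorem conj_congr {a a' : E} (h : X.π a = X.π a') (x : E) : a * x * a⁻¹ = a' * x * a'⁻¹ := by
  have hz : X.π (a'⁻¹ * a) = 1 := by rw [map_mul, map_inv, h, inv_mul_cancel]
  calc a * x * a⁻¹ = a' * ((a'⁻¹ * a) * x) * (a'⁻¹ * a)⁻¹ * a'⁻¹ := by group
    _ = a' * (x * (a'⁻¹ * a)) * (a'⁻¹ * a)⁻¹ * a'⁻¹ := by rw [← X.ker_comm hz x]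
    _ = a' * x * a'⁻¹ := by group

theorem cm_eq {a b : E} {g h : G} (ha : X.π a = g) (hb : X.π b = h) : ⁅a, b⁆ = X.cm g h := by
  have h1 : ⁅a, b⁆ = ⁅X.lf g, b⁆ := by
    rw [commutatorElement_def, commutatorElement_def, X.conj_congr (ha.trans (X.π_lf g).symm) b]
  have h2 : ⁅b, X.lf g⁆ = ⁅X.lf h, X.lf g⁆ := by
    rw [commutatorElement_def, commutatorElement_def, X.conj_congr (hb.trans (X.π_lf h).symm) (X.lf g)]
  rw [h1, cm, ← commutatorElement_inv, h2, commutatorElement_inv]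

theorem cm_inv (g h : G) : (X.cm g h)⁻¹ = X.cm h g := commutatorElement_inv _ _

theorem cm_conj (a : E) (g h : G) :
    a * X.cm g h * a⁻¹ = X.cm (X.π a * g * (X.π a)⁻¹) (X.π a * h * (X.π a)⁻¹) := by
  refine Eq.trans ?_ (X.cm_eq (a := a * X.lf g * a⁻¹) (b := a * X.lf h * a⁻¹) (by simp [X.π_lf]) (by simp [X.π_lf]))
  simp only [cm, commutatorElement_def]
  group

theorem cm_mul_left (g g' h : G) : X.cm (g * g') h = X.lf g * X.cm g' h * (X.lf g)⁻¹ * X.cm g h := by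
  rw [← X.cm_eq (a := X.lf g * X.lf g') (b := X.lf h) (by simp [X.π_lf]) (X.π_lf h), cm, cm]
  simp only [commutatorElement_def]
  group

theorem cm_mul_right (g h h' : G) : X.cm g (h * h') = X.cm g h * (X.lf h * X.cm g h' * (X.lf h)⁻¹) := by
  rw [← X.cm_eq (a := X.lf g) (b := X.lf h * X.lf h') (X.π_lf g) (by simp [X.π_lf]), cm, cm]
  simp only [commutatorElement_def]
  group

theorem cm_one_left (h : G) : X.cm 1 h = 1 := by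
  rw [← X.cm_eq (a := 1) (b := X.lf h) (map_one _) (X.π_lf h)]
  simp [commutatorElement_def]

theorem cm_one_right (h : G) : X.cm h 1 = 1 := by rw [← X.cm_inv, X.cm_one_left, inv_one]

theorem cm_one_iff {a b : E} {g h : G} (ha : X.π a = g) (hb : X.π b = h) : X.cm g h = 1 ↔ a * b = b * a := by
  rw [← X.cm_eq ha hb, commutatorElement_eq_one_iff_mul_comm]

theorem commute_of_cm {a b : E} (h : X.cm (X.π a) (X.π b) = 1) : a * b = b * a :=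
  (X.cm_one_iff rfl rfl).1 h

theorem comm_ext {a b : E} {g h : G} (ha : X.π a = g) (hb : X.π b = h) : a * b * a⁻¹ = X.cm g h * b := by
  rw [← X.cm_eq ha hb, commutatorElement_def]; group

/-- the subgroup generated by commutators of lifts -/
noncomputable def csub (U V : Subgroup G) : Subgroup E :=
  Subgroup.closure {z | ∃ x ∈ U, ∃ y ∈ V, z = X.cm x y}

theorem cm_mem_csub {U V : Subgroup G} {x y : G} (hx : x ∈ U) (hy : y ∈ V) : X.cm x y ∈ X.csub U V :=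
  Subgroup.subset_closure ⟨x, hx, y, hy, rfl⟩

theorem csub_swap (U V : Subgroup G) : X.csub U V = X.csub V U := by
  have : ∀ U V : Subgroup G, X.csub U V ≤ X.csub V U := fun U V => (Subgroup.closure_le _).2 (by
    rintro _ ⟨x, hx, y, hy, rfl⟩
    rw [← X.cm_inv]
    exact inv_mem (X.cm_mem_csub hy hx))
  exact le_antisymm (this U V) (this V U)

theorem csub_conj (a : E) (U V : Subgroup G) :
    cj a (X.csub U V) = X.csub (cj (X.π a) U) (cj (X.π a) V) := by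
  refine le_antisymm ?_ ?_
  · rw [csub, cj, Subgroup.map_le_iff_le_comap, Subgroup.closure_le]
    rintro _ ⟨x, hx, y, hy, rfl⟩
    show a * X.cm x y * a⁻¹ ∈ X.csub (cj (X.π a) U) (cj (X.π a) V)
    rw [X.cm_conj]
    exact X.cm_mem_csub (conj_mem_cj hx) (conj_mem_cj hy)
  · rw [csub, Subgroup.closure_le]
    rintro _ ⟨x, hx, y, hy, rfl⟩
    have e : X.cm x y = a * X.cm ((X.π a)⁻¹ * x * X.π a) ((X.π a)⁻¹ * y * X.π a) * a⁻¹ := by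
      rw [X.cm_conj]; congr 1 <;> group
    rw [SetLike.mem_coe, e]
    exact conj_mem_cj (X.cm_mem_csub (mem_cj.1 hx) (mem_cj.1 hy))

end Ext

variable (S : Sys G)

/-- lifts of the short root subgroups -/
noncomputable def TS (k : ZMod 6) : Subgroup E := X.csub S.H (S.SS k)

/-- lifts of the long root subgroups -/
noncomputable def TL (k : ZMod 6) : Subgroup E := X.csub (S.SS k) (S.SS (k + 1))

variable {a : E}

theorem cj_TS_H (ha : X.π a ∈ S.H) (k : ZMod 6) : cj a (TS X S k) = TS X S k := by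
  have hH : cj (X.π a) S.H = S.H := by
    ext x
    rw [mem_cj]
    constructor
    · intro h
      have := mul_mem (mul_mem ha h) (inv_mem ha)
      simpa [mul_assoc] using this
    · exact fun h => mul_mem (mul_mem (inv_mem ha) h) ha
  rw [TS, X.csub_conj, hH, S.hHS _ ha]

theorem cj_TL_H (ha : X.π a ∈ S.H) (k : ZMod 6) : cj a (TL X S k) = TL X S k := by
  rw [TL, X.csub_conj, S.hHS _ ha, S.hHS _ ha]

theorem cj_TS_na (ha : X.π a = S.na) (k : ZMod 6) : cj a (TS X S k) = TS X S (3 - k) := by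
  rw [TS, TS, X.csub_conj, ha, S.naH, S.naS]

theorem cj_TS_nb (ha : X.π a = S.nb) (k : ZMod 6) : cj a (TS X S k) = TS X S (2 - k) := by
  rw [TS, TS, X.csub_conj, ha, S.nbH, S.nbS]

theorem cj_TL_na (ha : X.π a = S.na) (k : ZMod 6) : cj a (TL X S k) = TL X S (2 - k) := by
  rw [TL, TL, X.csub_conj, ha, S.naS, S.naS, X.csub_swap]
  congr 2 <;> ring

theorem cj_TL_nb (ha : X.π a = S.nb) (k : ZMod 6) : cj a (TL X S k) = TL X S (1 - k) := by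
  rw [TL, TL, X.csub_conj, ha, S.nbS, S.nbS, X.csub_swap]
  congr 2 <;> ring

/-- the short roots are one orbit -/
theorem short_induction {P : ZMod 6 → Prop} (h1 : P 1) (ha : ∀ k, P k → P (3 - k)) (hb : ∀ k, P k → P (2 - k))
    (k : ZMod 6) : P k := by
  have h2 : P 2 := ha 1 h1
  have h0 : P 0 := hb 2 h2
  have h3 : P 3 := ha 0 h0
  have h5 : P 5 := hb 3 h3
  have h4 : P 4 := ha 5 h5
  fin_cases k <;> assumption

/-- the long roots are one orbit -/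
theorem long_induction {P : ZMod 6 → Prop} (h1 : P 1) (ha : ∀ k, P k → P (2 - k)) (hb : ∀ k, P k → P (1 - k))
    (k : ZMod 6) : P k := by
  have h0 : P 0 := hb 1 h1
  have h2 : P 2 := ha 0 h0
  have h5 : P 5 := hb 2 h2
  have h3 : P 3 := ha 5 h5
  have h4 : P 4 := hb 3 h3
  fin_cases k <;> assumption

end CfsgLib.Lie.G2Cover
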