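import Cfsg.Agent.Lib.Lie.Twisted.G2Cover.Roots

/-!
# The lift of the positive unipotent subgroup
-/

set_option autoImplicit false

namespace CfsgLib.Lie.G2Cover

open scoped commutatorElement
open Ext

universe u

variable {G : Type u} [Group G] {E : Type u} [Group E] (X : Ext G E) (S : Sys G)

/-- lifts of `U` normalise `Q` -/
def NormBy (U : Subgroup G) (Q : Subgroup E) : Prop := ∀ a : E, X.π a ∈ U → ∀ q ∈ Q, a * q * a⁻¹ ∈ Q

variable {X}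

theorem NormBy.of_cm {U V : Subgroup G} {T Q : Subgroup E} (hT : X.IsLift T V) (hTQ : T ≤ Q)
    (h : ∀ x ∈ U, ∀ y ∈ V, X.cm x y ∈ Q) {a q : E} (ha : X.π a ∈ U) (hq : q ∈ T) : a * q * a⁻¹ ∈ Q := by
  rw [X.comm_ext rfl rfl]
  exact mul_mem (h _ ha _ (hT.π_mem hq)) (hTQ hq)

theorem NormBy.sup {U : Subgroup G} {T R : Subgroup E} {Q : Subgroup E} (hQ : T ⊔ R = Q)
    (h1 : ∀ a : E, X.π a ∈ U → ∀ q ∈ T, a * q * a⁻¹ ∈ Q) (h2 : ∀ a : E, X.π a ∈ U → ∀ q ∈ R, a * q * a⁻¹ ∈ Q) :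
    NormBy X U Q := fun a ha q hq => by
  have : Q ≤ Q.comap (MulAut.conj a).toMonoidHom := by
    conv_lhs => rw [← hQ]
    exact sup_le (fun t ht => h1 a ha t ht) fun t ht => h2 a ha t ht
  exact this hq

theorem IsLift.join {T Q : Subgroup E} {U V : Subgroup G} (hT : X.IsLift T U) (hQ : X.IsLift Q V)
    (hn : NormBy X U Q) (hd : U ⊓ V = ⊥) : X.IsLift (T ⊔ Q) (U ⊔ V) := by
  refine ⟨by rw [Subgroup.map_sup, hT.map, hQ.map], fun z hz e => ?_⟩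
  have hle : T ≤ Subgroup.normalizer (Q : Set E) := fun t ht => Subgroup.mem_normalizer_iff.2 fun q =>
    ⟨fun hq => hn t (hT.π_mem ht) q hq, fun hq => by
      have := hn t⁻¹ (hT.π_mem (inv_mem ht)) _ hq
      rwa [show t⁻¹ * (t * q * t⁻¹) * t⁻¹⁻¹ = q by group] at this⟩
  rw [← SetLike.mem_coe, Subgroup.coe_mul_of_left_le_normalizer_right _ _ hle] at hz
  obtain ⟨t, ht, q, hq, rfl⟩ := hz
  rw [map_mul, mul_eq_one_iff_eq_inv] at e
  have h1 : X.π t ∈ U ⊓ V := Subgroup.mem_inf.2 ⟨hT.π_mem ht, by rw [e]; exact inv_mem (hQ.π_mem hq)⟩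
  rw [hd, Subgroup.mem_bot] at h1
  have ht1 := hT.inj t ht h1
  rw [h1, eq_comm, inv_eq_one] at e
  rw [ht1, hQ.inj q hq e]
  exact one_mul _

/-- commutators of lifts lie in a lift that both sides normalise -/
theorem cm_mem_of_rigid {H U V W : Subgroup G} {Q : Subgroup E} (hQ : X.IsLift Q W) (hr : Rigid H U V)
    (hU : ∀ h ∈ H, cj h U = U) (hV : ∀ h ∈ H, cj h V = V) (hnU : NormBy X U Q) (hnV : NormBy X V Q)
    (hnH : NormBy X H Q) (hc : ∀ x ∈ U, ∀ y ∈ V, ⁅x, y⁆ ∈ W) :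
    ∀ x ∈ U, ∀ y ∈ V, X.cm x y ∈ Q := by
  classical
  have hex : ∀ x ∈ U, ∀ y ∈ V, ∃ z ∈ Subgroup.center E, ∃ q ∈ Q, X.cm x y = z * q := fun x hx y hy => by
    obtain ⟨q, hq, e⟩ := hQ.exists_mem (hc x hx y hy)
    refine ⟨X.cm x y * q⁻¹, X.central (MonoidHom.mem_ker.2 ?_), q, hq, by group⟩
    rw [map_mul, map_inv, e, X.π_cm, mul_inv_cancel]
  have huniq : ∀ {z z' q q' : E}, z ∈ X.π.ker → z' ∈ X.π.ker → q ∈ Q → q' ∈ Q → z * q = z' * q' → z = z' := by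
    intro z z' q q' hz hz' hq hq' e
    have : q = q' := hQ.eq hq hq' (by
      have := congrArg X.π e
      rwa [map_mul, map_mul, MonoidHom.mem_ker.1 hz, MonoidHom.mem_ker.1 hz', one_mul, one_mul] at this)
    rw [this] at e
    exact mul_right_cancel e
  let δ : G → G → E := fun x y => if h : x ∈ U ∧ y ∈ V then
    X.cm x y * (hQ.exists_mem (hc x h.1 y h.2)).choose⁻¹ else 1
  have hδ : ∀ x ∈ U, ∀ y ∈ V, δ x y ∈ X.π.ker ∧ ∃ q ∈ Q, X.cm x y = δ x y * q := fun x hx y hy => by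
    obtain ⟨hq, e⟩ := (hQ.exists_mem (hc x hx y hy)).choose_spec
    simp only [δ, dif_pos (And.intro hx hy)]
    refine ⟨MonoidHom.mem_ker.2 ?_, _, hq, by group⟩
    rw [map_mul, map_inv, e, X.π_cm, mul_inv_cancel]
  have hcen : ∀ x y, δ x y ∈ Subgroup.center E := fun x y => by
    by_cases h : x ∈ U ∧ y ∈ V
    · exact X.central (hδ x h.1 y h.2).1
    · simp only [δ, dif_neg h]; exact one_mem _
  let inst : CommGroup (Subgroup.center E) :=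
    { (inferInstance : Group (Subgroup.center E)) with
      mul_comm := fun a b => Subtype.ext (Subgroup.mem_center_iff.1 b.2 a) }
  let f : G → G → Subgroup.center E := fun x y => ⟨δ x y, hcen x y⟩
  have hcm : ∀ (a : E) (x y : G), a * δ x y = δ x y * a := fun a x y => Subgroup.mem_center_iff.1 (hcen x y) a
  intro x hx y hy
  have h1 : f x y = 1 := hr f (fun a ha a' ha' b hb => Subtype.ext ?_) (fun a ha b hb b' hb' => Subtype.ext ?_)
    (fun h hh a ha b hb => Subtype.ext ?_) x hx y hy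
  · obtain ⟨-, q, hq, e⟩ := hδ x hx y hy
    rw [e, show δ x y = 1 from congrArg Subtype.val h1, one_mul]
    exact hq
  · obtain ⟨k1, q, hq, e⟩ := hδ _ (mul_mem ha ha') b hb
    obtain ⟨k2, q2, hq2, e2⟩ := hδ a ha b hb
    obtain ⟨k3, q3, hq3, e3⟩ := hδ a' ha' b hb
    have hn := hnU (X.lf a) (by rw [X.π_lf]; exact ha) q3 hq3
    refine huniq k1 (mul_mem k2 k3) hq (mul_mem hn hq2) (e.symm.trans ?_)
    show _ = δ a b * δ a' b * _
    rw [X.cm_mul_left, e2, e3]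
    calc X.lf a * (δ a' b * q3) * (X.lf a)⁻¹ * (δ a b * q2)
        = (X.lf a * δ a' b) * q3 * (X.lf a)⁻¹ * δ a b * q2 := by group
      _ = δ a' b * (X.lf a * q3 * (X.lf a)⁻¹ * δ a b) * q2 := by rw [hcm (X.lf a) a' b]; group
      _ = δ a' b * (δ a b * (X.lf a * q3 * (X.lf a)⁻¹)) * q2 := by rw [hcm (X.lf a * q3 * (X.lf a)⁻¹)]
      _ = (δ a' b * δ a b) * ((X.lf a * q3 * (X.lf a)⁻¹) * q2) := by group
      _ = _ := by rw [hcm (δ a' b)]
  · obtain ⟨k1, q, hq, e⟩ := hδ a ha _ (mul_mem hb hb')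
    obtain ⟨k2, q2, hq2, e2⟩ := hδ a ha b hb
    obtain ⟨k3, q3, hq3, e3⟩ := hδ a ha b' hb'
    have hn := hnV (X.lf b) (by rw [X.π_lf]; exact hb) q3 hq3
    refine huniq k1 (mul_mem k2 k3) hq (mul_mem hq2 hn) (e.symm.trans ?_)
    show _ = δ a b * δ a b' * _
    rw [X.cm_mul_right, e2, e3]
    calc δ a b * q2 * (X.lf b * (δ a b' * q3) * (X.lf b)⁻¹)
        = δ a b * (q2 * (X.lf b * δ a b')) * q3 * (X.lf b)⁻¹ := by group
      _ = δ a b * (q2 * δ a b') * X.lf b * q3 * (X.lf b)⁻¹ := by rw [hcm (X.lf b)]; group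
      _ = δ a b * (δ a b' * q2) * X.lf b * q3 * (X.lf b)⁻¹ := by rw [hcm q2]
      _ = _ := by group
  · have hha : h * a * h⁻¹ ∈ U := hU h hh ▸ conj_mem_cj ha
    have hhb : h * b * h⁻¹ ∈ V := hV h hh ▸ conj_mem_cj hb
    obtain ⟨k1, q, hq, e⟩ := hδ _ hha _ hhb
    obtain ⟨k2, q2, hq2, e2⟩ := hδ a ha b hb
    have hn := hnH (X.lf h) (by rw [X.π_lf]; exact hh) q2 hq2
    refine huniq k1 k2 hq hn (e.symm.trans ?_)
    have e4 := X.cm_conj (X.lf h) a b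
    rw [X.π_lf, e2] at e4
    rw [← e4]
    calc X.lf h * (δ a b * q2) * (X.lf h)⁻¹ = X.lf h * δ a b * q2 * (X.lf h)⁻¹ := by group
      _ = δ a b * (X.lf h * q2 * (X.lf h)⁻¹) := by rw [hcm (X.lf h)]; group

theorem normBy_H_TS (k : ZMod 6) : NormBy X S.H (TS X S k) := fun a ha q hq => by
  rw [← cj_TS_H X S ha k]; exact conj_mem_cj hq

theorem normBy_H_TL (k : ZMod 6) : NormBy X S.H (TL X S k) := fun a ha q hq => by
  rw [← cj_TL_H X S ha k]; exact conj_mem_cj hq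

theorem NormBy.sup_of {U : Subgroup G} {T R : Subgroup E} (h1 : NormBy X U T) (h2 : NormBy X U R) :
    NormBy X U (T ⊔ R) :=
  NormBy.sup rfl (fun a ha q hq => Subgroup.mem_sup_left (h1 a ha q hq))
    fun a ha q hq => Subgroup.mem_sup_right (h2 a ha q hq)

variable (X)

/-- the lifts of the positive roots, from the top -/
noncomputable def Q2 : Subgroup E := TL X S 0 ⊔ TL X S 1
/-- one more short root -/
noncomputable def Q3 : Subgroup E := TS X S 1 ⊔ Q2 X S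
/-- two short roots -/
noncomputable def Q4 : Subgroup E := TS X S 2 ⊔ Q3 X S
/-- three short roots -/
noncomputable def Q5 : Subgroup E := TS X S 0 ⊔ Q4 X S
/-- all positive roots -/
noncomputable def Q6 : Subgroup E := TL X S 2 ⊔ Q5 X S

theorem cm_zero_mem {U V : Subgroup G} (h : X.Zero U V) (Q : Subgroup E) :
    ∀ x ∈ U, ∀ y ∈ V, X.cm x y ∈ Q := fun x hx y hy => by
  rw [h x hx y hy]; exact one_mem Q

theorem lift_Q2 : X.IsLift (Q2 X S) (S.LL 0 ⊔ S.LL 1) :=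
  IsLift.join (lift_LL X S 0) (lift_LL X S 1)
    (fun _ ha _ hq => NormBy.of_cm (lift_LL X S 1) le_rfl (cm_zero_mem X (zL0L1 X S) _) ha hq) S.d2

theorem normBy_S1_Q2 : NormBy X (S.SS 1) (Q2 X S) :=
  NormBy.sup rfl (fun _ ha _ hq => NormBy.of_cm (lift_LL X S 0) le_sup_left (cm_zero_mem X (zS1L0 X S) _) ha hq)
    fun _ ha _ hq => NormBy.of_cm (lift_LL X S 1) le_sup_right (cm_zero_mem X (zS1L1 X S) _) ha hq

theorem lift_Q3 : X.IsLift (Q3 X S) (S.SS 1 ⊔ (S.LL 0 ⊔ S.LL 1)) :=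
  IsLift.join (lift_SS X S 1) (lift_Q2 X S) (normBy_S1_Q2 X S) S.d3

theorem TL0_le : TL X S 0 ≤ Q3 X S := le_sup_of_le_right le_sup_left
theorem TL1_le : TL X S 1 ≤ Q3 X S := le_sup_of_le_right le_sup_right

theorem normBy_H_Q3 : NormBy X S.H (Q3 X S) :=
  (normBy_H_TS S 1).sup_of ((normBy_H_TL S 0).sup_of (normBy_H_TL S 1))

theorem normBy_Q3_of {U : Subgroup G} (h1 : ∀ x ∈ U, ∀ y ∈ S.SS 1, X.cm x y ∈ Q3 X S)
    (h2 : X.Zero U (S.LL 0)) (h3 : X.Zero U (S.LL 1)) : NormBy X U (Q3 X S) :=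
  NormBy.sup rfl (fun _ ha _ hq => NormBy.of_cm (lift_SS X S 1) le_sup_left h1 ha hq) fun a ha q hq => by
    refine (NormBy.sup (X := X) (U := U) (Q := Q3 X S ⊓ Q2 X S) (T := TL X S 0) (R := TL X S 1) ?_
      (fun _ ha _ hq => NormBy.of_cm (lift_LL X S 0) (le_inf (TL0_le X S) le_sup_left)
        (cm_zero_mem X h2 _) ha hq)
      (fun _ ha _ hq => NormBy.of_cm (lift_LL X S 1) (le_inf (TL1_le X S) le_sup_right)
        (cm_zero_mem X h3 _) ha hq) a ha q ⟨Subgroup.mem_sup_right hq, hq⟩).1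
    rw [Q3, inf_eq_right.2 le_sup_right, Q2]

theorem normBy_S2_Q3 : NormBy X (S.SS 2) (Q3 X S) := by
  refine normBy_Q3_of X S (fun x hx y hy => TL1_le X S ?_) (zS2L0 X S) (zS2L1 X S)
  rw [TL, X.csub_swap]
  exact X.cm_mem_csub (by norm_num; exact hx) hy

theorem normBy_S0_Q3 : NormBy X (S.SS 0) (Q3 X S) := by
  refine normBy_Q3_of X S (fun x hx y hy => TL0_le X S ?_) (zS0L0 X S) (zS0L1 X S)
  rw [TL]
  exact X.cm_mem_csub hx (by norm_num; exact hy)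

theorem lift_Q4 : X.IsLift (Q4 X S) (S.SS 2 ⊔ (S.SS 1 ⊔ (S.LL 0 ⊔ S.LL 1))) :=
  IsLift.join (lift_SS X S 2) (lift_Q3 X S) (normBy_S2_Q3 X S) S.d4

theorem cm_S0S2 : ∀ x ∈ S.SS 0, ∀ y ∈ S.SS 2, X.cm x y ∈ Q3 X S :=
  cm_mem_of_rigid (lift_Q3 X S) S.rAB (fun h hh => S.hHS h hh _) (fun h hh => S.hHS h hh _)
    (normBy_S0_Q3 X S) (normBy_S2_Q3 X S) (normBy_H_Q3 X S) S.cAB

theorem Q3_le : Q3 X S ≤ Q4 X S := le_sup_right

theorem normBy_S0_Q4 : NormBy X (S.SS 0) (Q4 X S) :=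
  NormBy.sup rfl (fun _ ha _ hq => NormBy.of_cm (lift_SS X S 2) le_sup_left
    (fun x hx y hy => Q3_le X S (cm_S0S2 X S x hx y hy)) ha hq)
    fun a ha q hq => Q3_le X S (normBy_S0_Q3 X S a ha q hq)

theorem lift_Q5 : X.IsLift (Q5 X S) (S.SS 0 ⊔ (S.SS 2 ⊔ (S.SS 1 ⊔ (S.LL 0 ⊔ S.LL 1)))) :=
  IsLift.join (lift_SS X S 0) (lift_Q4 X S) (normBy_S0_Q4 X S) S.d5

theorem zL2L1 : X.Zero (S.LL 2) (S.LL 1) := by
  intro l hl z hz
  obtain ⟨x, hx, y, hy, rfl⟩ := S.sMB z hz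
  rw [X.cm_one_iff (a := X.lf l) (b := X.cm x y) (X.π_lf l) (X.π_cm x y), Ext.cm]
  have h1 : Commute (X.lf l) (X.lf x) := (zS1L2 X S).symm.commute (by rw [X.π_lf]; exact hl) (by rw [X.π_lf]; exact hx)
  have h2 : Commute (X.lf l) (X.lf y) := (zS2L2 X S).symm.commute (by rw [X.π_lf]; exact hl) (by rw [X.π_lf]; exact hy)
  exact ((((h1.mul_right h2).mul_right h1.inv_right).mul_right h2.inv_right)).eq

theorem cm_L2L0 : ∀ x ∈ S.LL 2, ∀ y ∈ S.LL 0, X.cm x y ∈ TL X S 1 := by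
  intro x hx y hy
  rcases S.orb2 x hx with rfl | ⟨h, hh, rfl⟩
  · rw [X.cm_one_left]; exact one_mem _
  have hy' : h⁻¹ * y * h ∈ S.LL 0 := mem_cj.1 (by rw [S.hHL h hh]; exact hy)
  have e : X.cm (h * S.p2 * h⁻¹) y = X.lf h * (gf X S (h⁻¹ * y * h)⁻¹)⁻¹ * (X.lf h)⁻¹ := by
    rw [gf, inv_inv, X.cm_inv, X.cm_conj, X.π_lf]
    congr 1
    group
  rw [e]
  exact normBy_H_TL S 1 _ (by rw [X.π_lf]; exact hh) _ (inv_mem (gf_mem X S (inv_mem hy')))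

theorem normBy_H_Q4 : NormBy X S.H (Q4 X S) := (normBy_H_TS S 2).sup_of (normBy_H_Q3 X S)

theorem normBy_L2_Q4 : NormBy X (S.LL 2) (Q4 X S) :=
  NormBy.sup rfl (fun _ ha _ hq => NormBy.of_cm (lift_SS X S 2) le_sup_left
    (cm_zero_mem X (zS2L2 X S).symm _) ha hq) fun a ha q hq => Q3_le X S <|
    NormBy.sup (X := X) (U := S.LL 2) rfl (fun _ ha _ hq => NormBy.of_cm (lift_SS X S 1) le_sup_left
      (cm_zero_mem X (zS1L2 X S).symm _) ha hq) (fun a ha q hq => Subgroup.mem_sup_right <|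
      NormBy.sup (X := X) (U := S.LL 2) rfl (fun _ ha _ hq => NormBy.of_cm (lift_LL X S 0) le_sup_left
        (fun x hx y hy => Subgroup.mem_sup_right (cm_L2L0 X S x hx y hy)) ha hq)
        (fun _ ha _ hq => NormBy.of_cm (lift_LL X S 1) le_sup_right (cm_zero_mem X (zL2L1 X S) _) ha hq)
        a ha q hq) a ha q hq

theorem cm_L2S0 : ∀ x ∈ S.LL 2, ∀ y ∈ S.SS 0, X.cm x y ∈ Q4 X S := fun x hx y hy => by
  rw [← X.cm_inv]
  exact inv_mem (cm_mem_of_rigid (lift_Q4 X S) S.rAb (fun h hh => S.hHS h hh _) (fun h hh => S.hHL h hh _)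
    (normBy_S0_Q4 X S) (normBy_L2_Q4 X S) (normBy_H_Q4 X S) S.cAb y hy x hx)

theorem normBy_L2_Q5 : NormBy X (S.LL 2) (Q5 X S) :=
  NormBy.sup rfl (fun _ ha _ hq => NormBy.of_cm (lift_SS X S 0) le_sup_left
    (fun x hx y hy => Subgroup.mem_sup_right (cm_L2S0 X S x hx y hy)) ha hq)
    fun a ha q hq => Subgroup.mem_sup_right (normBy_L2_Q4 X S a ha q hq)

theorem normBy_H_Q5 : NormBy X S.H (Q5 X S) := (normBy_H_TS S 0).sup_of (normBy_H_Q4 X S)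

theorem normBy_H_Q6 : NormBy X S.H (Q6 X S) := (normBy_H_TL S 2).sup_of (normBy_H_Q5 X S)

theorem lift_Q6 : X.IsLift (Q6 X S) (S.LL 2 ⊔ (S.SS 0 ⊔ (S.SS 2 ⊔ (S.SS 1 ⊔ (S.LL 0 ⊔ S.LL 1))))) :=
  IsLift.join (lift_LL X S 2) (lift_Q5 X S) (normBy_L2_Q5 X S) S.d6

/-- the unipotent radical of the parabolic of the short simple root -/
noncomputable def Qa : Subgroup E := TL X S 2 ⊔ Q4 X S

theorem normBy_S0_Qa : NormBy X (S.SS 0) (Qa X S) :=
  NormBy.sup rfl (fun _ ha _ hq => NormBy.of_cm (lift_LL X S 2) le_sup_left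
    (fun x hx y hy => by rw [← X.cm_inv]; exact inv_mem (Subgroup.mem_sup_right (cm_L2S0 X S y hy x hx))) ha hq)
    fun a ha q hq => Subgroup.mem_sup_right (normBy_S0_Q4 X S a ha q hq)

end CfsgLib.Lie.G2Cover
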