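import Cfsg.Agent.Lib.Lie.Twisted.G2Cover.Basic

/-!
# The root subgroups lift
-/

set_option autoImplicit false

namespace CfsgLib.Lie.G2Cover

open scoped commutatorElement

universe u

variable {G : Type u} [Group G] {E : Type u} [Group E] (X : Ext G E) (S : Sys G)

namespace Ext

/-- the projection maps `T` bijectively onto `U` -/
structure IsLift (T : Subgroup E) (U : Subgroup G) : Prop where
  map : T.map X.π = U
  inj : ∀ z ∈ T, X.π z = 1 → z = 1

/-- lifts of `U` and `V` commute -/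
def Zero (U V : Subgroup G) : Prop := ∀ x ∈ U, ∀ y ∈ V, X.cm x y = 1

variable {X}

theorem Zero.symm {U V : Subgroup G} (h : X.Zero U V) : X.Zero V U := fun x hx y hy => by
  rw [← X.cm_inv, h y hy x hx, inv_one]

theorem Zero.conj {U V : Subgroup G} (h : X.Zero U V) (g : G) : X.Zero (cj g U) (cj g V) := fun x hx y hy => by
  have e := X.cm_conj (X.lf g) (g⁻¹ * x * g) (g⁻¹ * y * g)
  rw [X.π_lf, h _ (mem_cj.1 hx) _ (mem_cj.1 hy), mul_one, mul_inv_cancel] at e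
  simpa [mul_assoc] using e.symm

theorem Zero.commute {U V : Subgroup G} (h : X.Zero U V) {a b : E} (ha : X.π a ∈ U) (hb : X.π b ∈ V) :
    a * b = b * a :=
  X.commute_of_cm (h _ ha _ hb)

theorem IsLift.exists_mem {T : Subgroup E} {U : Subgroup G} (h : X.IsLift T U) {x : G} (hx : x ∈ U) :
    ∃ t ∈ T, X.π t = x := by
  rw [← h.map] at hx
  exact hx

theorem IsLift.π_mem {T : Subgroup E} {U : Subgroup G} (h : X.IsLift T U) {t : E} (ht : t ∈ T) : X.π t ∈ U :=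
  h.map ▸ Subgroup.mem_map_of_mem _ ht

theorem IsLift.eq {T : Subgroup E} {U : Subgroup G} (h : X.IsLift T U) {a b : E} (ha : a ∈ T) (hb : b ∈ T)
    (e : X.π a = X.π b) : a = b :=
  mul_inv_eq_one.1 (h.inj _ (mul_mem ha (inv_mem hb)) (by rw [map_mul, map_inv, e, mul_inv_cancel]))

theorem IsLift.conj {T : Subgroup E} {U : Subgroup G} (h : X.IsLift T U) (a : E) :
    X.IsLift (cj a T) (cj (X.π a) U) := by
  refine ⟨?_, fun z hz e => ?_⟩
  · rw [cj, cj, ← h.map, Subgroup.map_map, Subgroup.map_map]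
    congr 1
    ext x
    simp [MulAut.conj_apply]
  · have h1 := h.inj _ (mem_cj.1 hz) (by rw [map_mul, map_mul, e, mul_one, ← map_mul, inv_mul_cancel, map_one])
    calc z = a * (a⁻¹ * z * a) * a⁻¹ := by group
      _ = 1 := by rw [h1]; group

theorem zero_of_rigid {H U V : Subgroup G} (hr : Rigid H U V) (hc : ∀ x ∈ U, ∀ y ∈ V, x * y = y * x)
    (hU : ∀ h ∈ H, cj h U = U) (hV : ∀ h ∈ H, cj h V = V) : X.Zero U V := by
  classical
  let f : G → G → Subgroup.center E := fun x y =>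
    if h : x ∈ U ∧ y ∈ V then ⟨X.cm x y, X.central (MonoidHom.mem_ker.2 (by
      rw [X.π_cm, commutatorElement_eq_one_iff_mul_comm]; exact hc x h.1 y h.2))⟩ else 1
  let inst : CommGroup (Subgroup.center E) :=
    { (inferInstance : Group (Subgroup.center E)) with
      mul_comm := fun a b => Subtype.ext (Subgroup.mem_center_iff.1 b.2 a) }
  have hf : ∀ x ∈ U, ∀ y ∈ V, ((f x y : Subgroup.center E) : E) = X.cm x y := fun x hx y hy => by
    simp [f, hx, hy]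
  have hz : ∀ x ∈ U, ∀ y ∈ V, ∀ a : E, a * X.cm x y = X.cm x y * a := fun x hx y hy a => by
    rw [← hf x hx y hy]; exact Subgroup.mem_center_iff.1 (f x y).2 a
  intro x hx y hy
  rw [← hf x hx y hy, hr f (fun a ha a' ha' b hb => Subtype.ext ?_) (fun a ha b hb b' hb' => Subtype.ext ?_)
    (fun h hh a ha b hb => Subtype.ext ?_) x hx y hy]
  · rfl
  · rw [Subgroup.coe_mul, hf _ (mul_mem ha ha') b hb, hf a ha b hb, hf a' ha' b hb, X.cm_mul_left,
      hz a' ha' b hb, mul_inv_cancel_right, hz a ha b hb]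
  · rw [Subgroup.coe_mul, hf a ha _ (mul_mem hb hb'), hf a ha b hb, hf a ha b' hb', X.cm_mul_right,
      hz a ha b' hb', mul_inv_cancel_right]
  · have h1 : h * a * h⁻¹ ∈ U := hU h hh ▸ conj_mem_cj ha
    have h2 : h * b * h⁻¹ ∈ V := hV h hh ▸ conj_mem_cj hb
    rw [hf _ h1 _ h2, hf a ha b hb]
    have e := X.cm_conj (X.lf h) a b
    rw [X.π_lf, hz a ha b hb, mul_inv_cancel_right] at e
    exact e.symm

end Ext

open Ext

/-! ### vanishing pairings -/

theorem zSS : X.Zero (S.SS 1) (S.SS 1) :=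
  zero_of_rigid S.rSS S.cSS (fun h hh => S.hHS h hh _) (fun h hh => S.hHS h hh _)

theorem zS1L1 : X.Zero (S.SS 1) (S.LL 1) :=
  zero_of_rigid S.rSL S.cSL (fun h hh => S.hHS h hh _) (fun h hh => S.hHL h hh _)

theorem zS0L1 : X.Zero (S.SS 0) (S.LL 1) :=
  zero_of_rigid S.rAL S.cAL (fun h hh => S.hHS h hh _) (fun h hh => S.hHL h hh _)

theorem zS2L1 : X.Zero (S.SS 2) (S.LL 1) := by
  have h := (zS1L1 X S).conj S.na
  rwa [S.naS, S.naL] at h

theorem zS1L0 : X.Zero (S.SS 1) (S.LL 0) := by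
  have h := (zS1L1 X S).conj S.nb
  rwa [S.nbS, S.nbL] at h

theorem zS2L0 : X.Zero (S.SS 2) (S.LL 0) := by
  have h := (zS0L1 X S).conj S.nb
  rwa [S.nbS, S.nbL] at h

theorem zS0L0 : X.Zero (S.SS 0) (S.LL 0) := by
  have h := (zS2L1 X S).conj S.nb
  rwa [S.nbS, S.nbL] at h

theorem zS2L2 : X.Zero (S.SS 2) (S.LL 2) := by
  have h := (zS1L0 X S).conj S.na
  rwa [S.naS, S.naL] at h

theorem zS1L2 : X.Zero (S.SS 1) (S.LL 2) := by
  have h := (zS2L0 X S).conj S.na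
  rwa [S.naS, S.naL] at h

/-! ### short roots -/

theorem lift_S1 : X.IsLift (TS X S 1) (S.SS 1) := by
  obtain ⟨h, hh, hinj, hsur⟩ := S.fpf
  have hin : ∀ g ∈ S.H, ∀ s ∈ S.SS 1, ⁅g, s⁆ ∈ S.SS 1 := fun g hg s hs => by
    rw [commutatorElement_def]
    exact mul_mem (S.hHS g hg 1 ▸ conj_mem_cj hs) (inv_mem hs)
  obtain ⟨f, hf⟩ : ∃ f : G → E, f = fun s => X.cm h s := ⟨_, rfl⟩
  have hfm : ∀ s ∈ S.SS 1, ∀ s' ∈ S.SS 1, f (s * s') = f s * f s' := fun s hs s' hs' => by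
    simp only [hf]
    rw [X.cm_mul_right, (zSS X S).commute (a := X.lf s) (b := X.cm h s') (by rw [X.π_lf]; exact hs)
      (by rw [X.π_cm]; exact hin h hh s' hs'), mul_inv_cancel_right]
  let R : Subgroup E :=
    { carrier := {z | ∃ s ∈ S.SS 1, z = f s}
      one_mem' := ⟨1, one_mem _, by rw [hf]; exact (X.cm_one_right h).symm⟩
      mul_mem' := by
        rintro _ _ ⟨s, hs, rfl⟩ ⟨s', hs', rfl⟩
        exact ⟨s * s', mul_mem hs hs', (hfm s hs s' hs').symm⟩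
      inv_mem' := by
        rintro _ ⟨s, hs, rfl⟩
        refine ⟨s⁻¹, inv_mem hs, inv_eq_of_mul_eq_one_right ?_⟩
        rw [← hfm s hs _ (inv_mem hs), mul_inv_cancel, hf]
        exact X.cm_one_right h }
  have hπf : ∀ s, X.π (f s) = ⁅h, s⁆ := fun s => by rw [hf]; exact X.π_cm h s
  have hle : TS X S 1 ≤ R := by
    rw [TS, Ext.csub, Subgroup.closure_le]
    rintro _ ⟨g, hg, x, hx, rfl⟩
    obtain ⟨s, hs, rfl⟩ := hsur x hx
    have e : X.cm g ⁅h, s⁆ = f (g * s * g⁻¹) * (f s)⁻¹ := by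
      rw [← X.cm_eq (a := X.lf g) (b := f s) (X.π_lf g) (hπf s), commutatorElement_def]
      simp only [hf]
      rw [X.cm_conj, X.π_lf, S.hH g hg h hh, mul_inv_cancel_right]
    rw [SetLike.mem_coe, e]
    exact mul_mem ⟨_, S.hHS g hg 1 ▸ conj_mem_cj hs, rfl⟩ (inv_mem ⟨s, hs, rfl⟩)
  refine ⟨le_antisymm ?_ fun x hx => ?_, fun z hz e => ?_⟩
  · rw [Subgroup.map_le_iff_le_comap]
    intro z hz
    obtain ⟨s, hs, rfl⟩ := hle hz
    rw [Subgroup.mem_comap, hπf]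
    exact hin h hh s hs
  · obtain ⟨s, hs, rfl⟩ := hsur x hx
    exact ⟨X.cm h s, X.cm_mem_csub hh hs, X.π_cm h s⟩
  · obtain ⟨s, hs, rfl⟩ := hle hz
    rw [hπf] at e
    rw [hinj s hs e, hf]
    exact X.cm_one_right h

theorem lift_SS (k : ZMod 6) : X.IsLift (TS X S k) (S.SS k) := by
  refine short_induction (P := fun k => X.IsLift (TS X S k) (S.SS k)) (lift_S1 X S) (fun j hj => ?_) (fun j hj => ?_) k
  · have h := hj.conj (X.lf S.na)
    rwa [cj_TS_na X S (X.π_lf _), X.π_lf, S.naS] at h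
  · have h := hj.conj (X.lf S.nb)
    rwa [cj_TS_nb X S (X.π_lf _), X.π_lf, S.nbS] at h

/-! ### long roots -/

/-- a lift of an element of `LL 0` commutes with a lift of an element of `LL 1` -/
theorem zL0L1 : X.Zero (S.LL 0) (S.LL 1) := by
  intro l hl z hz
  obtain ⟨x, hx, y, hy, rfl⟩ := S.sMB z hz
  rw [X.cm_one_iff (a := X.lf l) (b := X.cm x y) (X.π_lf l) (X.π_cm x y), Ext.cm]
  have h1 : Commute (X.lf l) (X.lf x) := (zS1L0 X S).symm.commute (by rw [X.π_lf]; exact hl) (by rw [X.π_lf]; exact hx)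
  have h2 : Commute (X.lf l) (X.lf y) := (zS2L0 X S).symm.commute (by rw [X.π_lf]; exact hl) (by rw [X.π_lf]; exact hy)
  exact ((((h1.mul_right h2).mul_right h1.inv_right).mul_right h2.inv_right)).eq

include X in
theorem cj_p2_S1 {x : G} (hx : x ∈ S.SS 1) : S.p2 * x * S.p2⁻¹ = x := by
  have e : ⁅x, S.p2⁆ = 1 := by rw [← X.π_cm, zS1L2 X S x hx S.p2 S.p2m, map_one]
  rw [commutatorElement_eq_one_iff_mul_comm] at e
  rw [← e, mul_inv_cancel_right]

/-- the image of an element of `LL 0` under commutation with `p2` -/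
noncomputable def gf (l : G) : E := X.cm l⁻¹ S.p2

theorem cm_eq_gf {x y : G} (hx : x ∈ S.SS 1) (hy : y ∈ S.SS 2) :
    ∃ l ∈ S.LL 0, X.cm x y = gf X S l := by
  obtain ⟨v, hv, w, hw, hbv⟩ := S.twist y hy
  have hπc : X.π (X.cm x v) ∈ S.LL 0 := by
    have h1 : S.nb⁻¹ * x * S.nb ∈ S.SS 1 := mem_cj.1 (by rw [S.nbS]; norm_num; exact hx)
    have h2 : S.nb⁻¹ * v * S.nb ∈ S.SS 2 := mem_cj.1 (by rw [S.nbS]; norm_num; exact hv)
    have h := conj_mem_cj (g := S.nb) (S.cMB _ h1 _ h2)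
    rw [S.nbL, show (1 : ZMod 6) - 1 = 0 from sub_self 1] at h
    rw [X.π_cm]
    convert h using 1
    simp only [commutatorElement_def]
    group
  refine ⟨_, hπc, ?_⟩
  have e1 : X.lf S.p2 * X.cm x v * (X.lf S.p2)⁻¹ = X.cm x (v * y * w) := by
    rw [X.cm_conj, X.π_lf, cj_p2_S1 X S hx, hbv]
  have hxw : X.cm x w = 1 := by
    have hle : S.SS 1 ⊔ (S.LL 0 ⊔ S.LL 1) ≤ ((Subgroup.centralizer {X.lf x}).map X.π) := by
      refine sup_le (fun a ha => ?_) (sup_le (fun a ha => ?_) (fun a ha => ?_))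
      all_goals refine ⟨X.lf a, Subgroup.mem_centralizer_singleton_iff.2 ?_, X.π_lf a⟩
      · exact (zSS X S).commute (by rw [X.π_lf]; exact ha) (by rw [X.π_lf]; exact hx)
      · exact (zS1L0 X S).symm.commute (by rw [X.π_lf]; exact ha) (by rw [X.π_lf]; exact hx)
      · exact (zS1L1 X S).symm.commute (by rw [X.π_lf]; exact ha) (by rw [X.π_lf]; exact hx)
    obtain ⟨b, hb, hbw⟩ := hle hw
    exact (X.cm_one_iff (X.π_lf x) hbw).2 (Subgroup.mem_centralizer_singleton_iff.1 hb).symm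
  have e2 : X.cm x (v * y * w) = X.cm x v * X.cm x y := by
    have hc : X.lf v * X.cm x y * (X.lf v)⁻¹ = X.cm x y := by
      rw [(zS0L1 X S).commute (a := X.lf v) (b := X.cm x y) (by rw [X.π_lf]; exact hv)
        (by rw [X.π_cm]; exact S.cMB x hx y hy), mul_inv_cancel_right]
    rw [X.cm_mul_right x (v * y) w, hxw, mul_one, mul_inv_cancel, mul_one, X.cm_mul_right, hc]
  rw [gf, ← X.cm_eq (a := (X.cm x v)⁻¹) (b := X.lf S.p2) (map_inv _ _) (X.π_lf _), commutatorElement_def, inv_inv]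
  calc X.cm x y = (X.cm x v)⁻¹ * (X.cm x v * X.cm x y) := by group
    _ = (X.cm x v)⁻¹ * (X.lf S.p2 * X.cm x v * (X.lf S.p2)⁻¹) := by rw [e1, e2]
    _ = _ := by group

theorem gf_mul {l l' : G} (hl : l ∈ S.LL 0) (hl' : l' ∈ S.LL 0) : gf X S (l * l') = gf X S l * gf X S l' := by
  have h0 : ∀ a ∈ S.LL 0, ∀ b ∈ S.LL 0, X.lf a * gf X S b = gf X S b * X.lf a := fun a ha b hb =>
    (zL0L1 X S).commute (by rw [X.π_lf]; exact ha) (by rw [gf, X.π_cm]; exact S.cLb b hb)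
  rw [gf, mul_inv_rev, X.cm_mul_left, ← gf, ← gf, h0 _ (inv_mem hl') l hl, mul_inv_cancel_right]

theorem π_gf (l : G) : X.π (gf X S l) = ⁅l⁻¹, S.p2⁆ := X.π_cm _ _

theorem gf_inj {l l' : G} (hl : l ∈ S.LL 0) (hl' : l' ∈ S.LL 0) (e : X.π (gf X S l) = X.π (gf X S l')) :
    l = l' := by
  have h := gf_mul X S (mul_mem hl (inv_mem hl')) hl'
  rw [inv_mul_cancel_right] at h
  rw [h, map_mul, mul_eq_right, π_gf] at e
  exact mul_inv_eq_one.1 (S.injL _ (mul_mem hl (inv_mem hl')) e)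

theorem gf_mem {l : G} (hl : l ∈ S.LL 0) : gf X S l ∈ TL X S 1 := by
  obtain ⟨x, hx, y, hy, e⟩ := S.sMB _ (S.cLb l hl)
  obtain ⟨m, hm, em⟩ := cm_eq_gf X S hx hy
  have : m = l := gf_inj X S hm hl (by rw [← em, X.π_cm, π_gf, e])
  rw [← this, ← em, TL]
  exact X.cm_mem_csub hx (by norm_num; exact hy)

theorem mem_TL1 {z : E} (hz : z ∈ TL X S 1) : ∃ l ∈ S.LL 0, z = gf X S l := by
  have h1 : gf X S 1 = 1 := by rw [gf, inv_one, X.cm_one_left]
  let R : Subgroup E :=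
    { carrier := {z | ∃ l ∈ S.LL 0, z = gf X S l}
      one_mem' := ⟨1, one_mem _, h1.symm⟩
      mul_mem' := by
        rintro _ _ ⟨s, hs, rfl⟩ ⟨s', hs', rfl⟩
        exact ⟨s * s', mul_mem hs hs', (gf_mul X S hs hs').symm⟩
      inv_mem' := by
        rintro _ ⟨s, hs, rfl⟩
        refine ⟨s⁻¹, inv_mem hs, inv_eq_of_mul_eq_one_right ?_⟩
        rw [← gf_mul X S hs (inv_mem hs), mul_inv_cancel, h1] }
  refine (?_ : TL X S 1 ≤ R) hz
  rw [TL, Ext.csub, Subgroup.closure_le]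
  rintro _ ⟨x, hx, y, hy, rfl⟩
  exact cm_eq_gf X S hx (by norm_num at hy; exact hy)

theorem lift_L1 : X.IsLift (TL X S 1) (S.LL 1) := by
  refine ⟨le_antisymm ?_ fun z hz => ?_, fun z hz e => ?_⟩
  · rintro _ ⟨z, hz, rfl⟩
    obtain ⟨l, hl, rfl⟩ := mem_TL1 X S hz
    rw [π_gf]
    exact S.cLb l hl
  · obtain ⟨x, hx, y, hy, rfl⟩ := S.sMB z hz
    exact ⟨X.cm x y, X.cm_mem_csub hx (by norm_num; exact hy), X.π_cm x y⟩
  · obtain ⟨l, hl, rfl⟩ := mem_TL1 X S hz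
    rw [S.injL l hl (by rw [← π_gf X S, e]), gf, inv_one, X.cm_one_left]

theorem lift_LL (k : ZMod 6) : X.IsLift (TL X S k) (S.LL k) := by
  refine long_induction (P := fun k => X.IsLift (TL X S k) (S.LL k)) (lift_L1 X S) (fun j hj => ?_) (fun j hj => ?_) k
  · have h := hj.conj (X.lf S.na)
    rwa [cj_TL_na X S (X.π_lf _), X.π_lf, S.naL] at h
  · have h := hj.conj (X.lf S.nb)
    rwa [cj_TL_nb X S (X.π_lf _), X.π_lf, S.nbL] at h

end CfsgLib.Lie.G2Cover
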